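import Groth.Agent.EtDescSplit.Coherence
import Groth.Agent.EtMVLib.ExtTools
import Groth.Agent.EtMVLib.BigPull
import Groth.Agent.EtMVLib.HpullApply

/-!
# Etale cohomology of a sheaf on `Y` as a functor on schemes over `Y`
-/

universe u

open CategoryTheory CategoryTheory.Limits CategoryTheory.Abelian AlgebraicGeometry Opposite

namespace Groth.Agent.EtDescSplit

set_option backward.isDefEq.respectTransparency false
set_option backward.isDefEq.respectTransparency.types false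

open Groth.Agent.EtMVLib

variable {X Y : Scheme.{u}}

instance pullPFL (f : X ⟶ Y) : PreservesFiniteLimits (EtCoh.pull f) :=
  EtFound.pull_preservesFiniteLimits f

/-- The pullback map. -/
noncomputable def hres {U W : Scheme.{u}} (k : W ⟶ U) (j : U ⟶ Y) (w : W ⟶ Y) (e : k ≫ j = w)
    (F : EtCoh.Ab Y) (n : ℕ) :
    EtCoh.H U ((EtCoh.pull j).obj F) n →+ EtCoh.H W ((EtCoh.pull w).obj F) n :=
  EtCore.HpullVia k j w e F n

lemma hres_apply {U W : Scheme.{u}} (k : W ⟶ U) (j : U ⟶ Y) (w : W ⟶ Y) (e : k ≫ j = w)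
    (F : EtCoh.Ab Y) (n : ℕ) (β : EtCoh.H U ((EtCoh.pull j).obj F) n) :
    hres k j w e F n β =
      ((Ext.mk₀ (EtCore.pullConst k ℤ).inv).comp (β.mapExactFunctor (EtCoh.pull k)) (zero_add n)).comp
        (Ext.mk₀ ((θ k j w e).hom.app F)) (add_zero n) := rfl

theorem hres_comp {U W W' : Scheme.{u}} (k' : W' ⟶ W) (k : W ⟶ U) (j : U ⟶ Y) (w : W ⟶ Y) (e : k ≫ j = w)
    (kk : W' ⟶ U) (ekk : k' ≫ k = kk) (w' : W' ⟶ Y) (e' : k' ≫ w = w') (e'' : kk ≫ j = w')
    (F : EtCoh.Ab Y) (n : ℕ) (β : EtCoh.H U ((EtCoh.pull j).obj F) n) :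
    hres k' w w' e' F n (hres k j w e F n β) = hres kk j w' e'' F n β := by
  let L₁ := EtCoh.pull k
  let L₂ := EtCoh.pull k'
  have : PreservesFiniteLimits (L₁ ⋙ L₂) := comp_preservesFiniteLimits _ _
  have : PreservesFiniteColimits (L₁ ⋙ L₂) := comp_preservesFiniteColimits _ _
  have hpc : (EtCore.pullConst k' ℤ).inv ≫ L₂.map (EtCore.pullConst k ℤ).inv ≫
      (θ k' k kk ekk).hom.app (EtCoh.const U ℤ) = (EtCore.pullConst kk ℤ).inv :=
    pullConst_comp (X := U) k kk k' ekk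
  rw [hres_apply, hres_apply, hres_apply, Ext.mapExactFunctor_comp, Ext.mapExactFunctor_comp,
    Ext.mapExactFunctor_mk₀, Ext.mapExactFunctor_mk₀, ← mapExactFunctor_functorComp]
  rw [← hpc]
  rw [← Ext.mk₀_comp_mk₀, ← Ext.mk₀_comp_mk₀]
  simp only [Ext.comp_assoc_of_second_deg_zero, Ext.comp_assoc_of_third_deg_zero, Ext.mk₀_comp_mk₀]
  rw [θ_assoc k' k j w e kk ekk w' e' e'' F, ← Ext.mk₀_comp_mk₀,
    ← Ext.comp_assoc_of_third_deg_zero (α := β.mapExactFunctor (L₁ ⋙ L₂))]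
  rw [mapExactFunctor_natTrans (L₁ ⋙ L₂) (EtCoh.pull kk) (θ k' k kk ekk).hom β]
  simp only [← Ext.mk₀_comp_mk₀, Ext.comp_assoc_of_second_deg_zero]
  exact congrArg (fun z => (Ext.mk₀ _).comp ((Ext.mk₀ _).comp z (zero_add n)) (zero_add n))
    (Ext.comp_assoc_of_third_deg_zero _ _ _ _)

/-- Base change along the identity. -/
noncomputable def bcId (U : Scheme.{u}) : EtCoh.bc (𝟙 U) ≅ 𝟭 U.Etale :=
  NatIso.ofComponents
    (fun V => MorphismProperty.Over.isoMk (@asIso _ _ _ _ (pullback.fst V.hom (𝟙 U)) inferInstance)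
      (pullback.condition.trans (Category.comp_id _)))
    (fun m => MorphismProperty.Over.Hom.ext (by exact (EtCoh.isPullback_bc_map (𝟙 U) m).w))

/-- Inverse image along the identity. -/
noncomputable def pullId (U : Scheme.{u}) : EtCoh.pull (𝟙 U) ≅ 𝟭 (EtCoh.Ab U) :=
  Adjunction.leftAdjointUniq (EtCoh.pullPushAdj (𝟙 U))
    (Adjunction.id.ofNatIsoRight (Functor.sheafPushforwardContinuousId'
      (bcId U)
      AddCommGrpCat.{u + 1} U.smallEtaleTopology).symm)

lemma comp_mk₀_iso_injective {A B B' : EtCoh.Ab X} {n : ℕ} (e : B ≅ B') {α α' : Ext A B n}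
    (h : α.comp (Ext.mk₀ e.hom) (add_zero n) = α'.comp (Ext.mk₀ e.hom) (add_zero n)) : α = α' := by
  simpa using congrArg (fun z => Ext.comp z (Ext.mk₀ e.inv) (add_zero n)) h

lemma mk₀_iso_comp_injective {A A' B : EtCoh.Ab X} {n : ℕ} (e : A' ≅ A) {α α' : Ext A B n}
    (h : (Ext.mk₀ e.hom).comp α (zero_add n) = (Ext.mk₀ e.hom).comp α' (zero_add n)) : α = α' := by
  simpa using congrArg (fun z => (Ext.mk₀ e.inv).comp z (zero_add n)) h

theorem hres_id {U : Scheme.{u}} (j : U ⟶ Y) (e : 𝟙 U ≫ j = j) (F : EtCoh.Ab Y) (n : ℕ)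
    (β : EtCoh.H U ((EtCoh.pull j).obj F) n) : hres (𝟙 U) j j e F n β = β := by
  have hinj : Function.Injective (hres (𝟙 U) j j e F n) := fun a b h => by
    rw [hres_apply, hres_apply] at h
    have h1 := mk₀_iso_comp_injective (EtCore.pullConst (𝟙 U) ℤ).symm
      (comp_mk₀_iso_injective ((θ (𝟙 U) j j e).app F) h)
    have h2 := congrArg (fun z => Ext.comp z (Ext.mk₀ ((pullId U).hom.app _)) (add_zero n)) h1
    simp only [mapExactFunctor_natTrans _ _ (pullId U).hom, mapExactFunctor_id] at h2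
    exact mk₀_iso_comp_injective ((pullId U).app _) h2
  exact hinj (hres_comp (𝟙 U) (𝟙 U) j j e (𝟙 U) (Category.comp_id _) j e e F n β)

/-- `U ↦ H^n(U, F|U)` on schemes over `Y`. -/
noncomputable def cohFunctor (F : EtCoh.Ab Y) (n : ℕ) : (Over Y)ᵒᵖ ⥤ AddCommGrpCat.{u + 1} where
  obj U := AddCommGrpCat.of (EtCoh.H U.unop.left ((EtCoh.pull U.unop.hom).obj F) n)
  map m := AddCommGrpCat.ofHom (hres m.unop.left _ _ (Over.w m.unop) F n)
  map_id U := by
    ext β
    exact hres_id _ _ F n β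
  map_comp {U W W'} m m' := by
    ext β
    exact (hres_comp m'.unop.left m.unop.left _ _ (Over.w m.unop) _ rfl _ (Over.w m'.unop)
      (Over.w (m'.unop ≫ m.unop)) F n β).symm

/-- The value at `Y` itself. -/
noncomputable def cohFunctorId (F : EtCoh.Ab Y) (n : ℕ) :
    (cohFunctor F n).obj (op (Over.mk (𝟙 Y))) ≅ AddCommGrpCat.of (EtCoh.H Y F n) :=
  (EtCoh.HF Y n).mapIso ((pullId Y).app F)

end Groth.Agent.EtDescSplit
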