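import Groth.Agent.EtMVLib.OpenSeq
import Groth.Agent.EtFound.PullStalk

/-!
# Coherence of inverse images of abelian etale sheaves

The composition isomorphisms `pull t ⋙ pull k ≅ pull w` for `k ≫ t = w` are compatible with
iterated composition.
-/

universe u

open CategoryTheory CategoryTheory.Limits AlgebraicGeometry Opposite

namespace Groth.Agent.EtDescSplit

set_option backward.isDefEq.respectTransparency false
set_option backward.isDefEq.respectTransparency.types false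

variable {X Y Z : Scheme.{u}}

/-- A section pulled back along `f`. -/
noncomputable def up (f : X ⟶ Y) (G : EtCoh.Ab Y) (V : Y.Etale) (a : EtCoh.sect G V) :
    EtCoh.sect ((EtCoh.pull f).obj G) ((EtCoh.bc f).obj V) :=
  ((EtCoh.pullPushAdj f).unit.app G).hom.app (op V) a

lemma up_natural (f : X ⟶ Y) {G G' : EtCoh.Ab Y} (φ : G ⟶ G') (V : Y.Etale) (a : EtCoh.sect G V) :
    ((EtCoh.pull f).map φ).hom.app (op ((EtCoh.bc f).obj V)) (up f G V a) =
      up f G' V (φ.hom.app (op V) a) :=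
  (ConcreteCategory.congr_hom
    (NatTrans.congr_app (congrArg (fun z => z.hom) ((EtCoh.pullPushAdj f).unit.naturality φ)) (op V)) a).symm

lemma up_res (f : X ⟶ Y) (G : EtCoh.Ab Y) {V V' : Y.Etale} (m : V' ⟶ V) (a : EtCoh.sect G V) :
    up f G V' (G.obj.map m.op a) =
      ((EtCoh.pull f).obj G).obj.map ((EtCoh.bc f).map m).op (up f G V a) :=
  ((EtCoh.pullPushAdj f).unit.app G).hom.naturality_apply m.op a

lemma push_hom_ext (f : X ⟶ Y) {G : EtCoh.Ab Y} {H : EtCoh.Ab X} {α β : (EtCoh.pull f).obj G ⟶ H}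
    (h : ∀ V a, α.hom.app (op ((EtCoh.bc f).obj V)) (up f G V a) =
      β.hom.app (op ((EtCoh.bc f).obj V)) (up f G V a)) : α = β := by
  apply ((EtCoh.pullPushAdj f).homEquiv G H).injective
  rw [Adjunction.homEquiv_unit, Adjunction.homEquiv_unit]
  refine Sheaf.hom_ext (NatTrans.ext (funext fun V => ?_))
  exact ConcreteCategory.hom_ext _ _ fun a => h V.unop a

/-- Maps out of a double inverse image. -/
lemma push_hom_ext₂ {W : Scheme.{u}} (g : W ⟶ X) (f : X ⟶ Y) {G : EtCoh.Ab Y} {H : EtCoh.Ab W}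
    {α β : (EtCoh.pull g).obj ((EtCoh.pull f).obj G) ⟶ H}
    (h : ∀ V a, α.hom.app (op ((EtCoh.bc g).obj ((EtCoh.bc f).obj V))) (up g _ _ (up f G V a)) =
      β.hom.app (op ((EtCoh.bc g).obj ((EtCoh.bc f).obj V))) (up g _ _ (up f G V a))) : α = β := by
  apply ((EtCoh.pullPushAdj g).homEquiv _ H).injective
  refine push_hom_ext f fun V a => ?_
  rw [Adjunction.homEquiv_unit, Adjunction.homEquiv_unit]
  exact h V a

/-- Maps out of a triple inverse image. -/
lemma push_hom_ext₃ {W W' : Scheme.{u}} (g' : W' ⟶ W) (g : W ⟶ X) (f : X ⟶ Y) {G : EtCoh.Ab Y}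
    {H : EtCoh.Ab W'}
    {α β : (EtCoh.pull g').obj ((EtCoh.pull g).obj ((EtCoh.pull f).obj G)) ⟶ H}
    (h : ∀ V a, α.hom.app (op ((EtCoh.bc g').obj ((EtCoh.bc g).obj ((EtCoh.bc f).obj V))))
        (up g' _ _ (up g _ _ (up f G V a))) =
      β.hom.app (op ((EtCoh.bc g').obj ((EtCoh.bc g).obj ((EtCoh.bc f).obj V))))
        (up g' _ _ (up g _ _ (up f G V a)))) : α = β := by
  apply ((EtCoh.pullPushAdj g').homEquiv _ H).injective
  refine push_hom_ext₂ g f fun V a => ?_
  rw [Adjunction.homEquiv_unit, Adjunction.homEquiv_unit]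
  exact h V a

/-- Morphisms to a base change are determined by the first projection. -/
lemma bc_hom_ext (f : X ⟶ Y) {V : Y.Etale} {A : X.Etale} {m m' : A ⟶ (EtCoh.bc f).obj V}
    (h : m.left ≫ pullback.fst V.hom f = m'.left ≫ pullback.fst V.hom f) : m = m' := by
  apply MorphismProperty.Over.Hom.ext
  refine pullback.hom_ext h ?_
  exact (MorphismProperty.Over.w m).trans (MorphismProperty.Over.w m').symm

/-- The composition isomorphism for `k ≫ t = w`. -/
noncomputable def θ (k : X ⟶ Y) (t : Y ⟶ Z) (w : X ⟶ Z) (e : k ≫ t = w) :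
    EtCoh.pull t ⋙ EtCoh.pull k ≅ EtCoh.pull w :=
  (EtCore.pullComp k t).symm ≪≫ EtCore.pullCongr e

/-- The comparison of iterated base change with the composite one. -/
noncomputable def bcD (k : X ⟶ Y) (t : Y ⟶ Z) (V : Z.Etale) :
    (EtCoh.bc k).obj ((EtCoh.bc t).obj V) ⟶ (EtCoh.bc (k ≫ t)).obj V :=
  ((MorphismProperty.Over.pullbackComp (P := EtCoh.etaleMP) (Q := ⊤) k t).app V).inv

lemma bcD_fst (k : X ⟶ Y) (t : Y ⟶ Z) (V : Z.Etale) :
    (bcD k t V).left ≫ pullback.fst V.hom (k ≫ t) =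
      pullback.fst ((EtCoh.bc t).obj V).hom k ≫ pullback.fst V.hom t := by
  let i := (MorphismProperty.Over.pullbackComp (P := EtCoh.etaleMP) (Q := ⊤) k t).app V
  have h : i.hom.left ≫ pullback.fst _ _ ≫ pullback.fst _ _ = pullback.fst _ _ :=
    MorphismProperty.Over.pullbackComp_left_fst_fst k t V
  have h' : i.inv.left ≫ i.hom.left = 𝟙 _ :=
    (congrArg (fun z => ((MorphismProperty.Over.forget EtCoh.etaleMP ⊤ X).map z).left) i.inv_hom_id)
  exact (congrArg (i.inv.left ≫ ·) h.symm).trans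
    ((Category.assoc _ _ _).symm.trans ((congrArg (· ≫ _) h').trans (Category.id_comp _)))

lemma pushComp_app_apply (k : X ⟶ Y) (t : Y ⟶ Z) (H : EtCoh.Ab X) (V : Z.Etale)
    (a : EtCoh.sect H ((EtCoh.bc k).obj ((EtCoh.bc t).obj V))) :
    ((EtCoh.pushComp t k).inv.app H).hom.app (op V)
      (((EtCoh.pushComp t k).hom.app H).hom.app (op V) a) = a :=
  (ConcreteCategory.congr_hom (NatTrans.congr_app
    (congrArg (fun z => z.hom) ((EtCoh.pushComp t k).hom_inv_id_app H)) (op V)) a)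

/-- Characterisation of the composition isomorphism on sections. -/
theorem θ_up (k : X ⟶ Y) (t : Y ⟶ Z) (w : X ⟶ Z) (e : k ≫ t = w) (G : EtCoh.Ab Z) (V : Z.Etale)
    (a : EtCoh.sect G V) (d : (EtCoh.bc k).obj ((EtCoh.bc t).obj V) ⟶ (EtCoh.bc w).obj V)
    (hd : d.left ≫ pullback.fst V.hom w = pullback.fst ((EtCoh.bc t).obj V).hom k ≫ pullback.fst V.hom t) :
    ((θ k t w e).hom.app G).hom.app (op ((EtCoh.bc k).obj ((EtCoh.bc t).obj V))) (up k _ _ (up t G V a)) =
      ((EtCoh.pull w).obj G).obj.map d.op (up w G V a) := by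
  subst e
  obtain rfl : d = bcD k t V := bc_hom_ext _ (hd.trans (bcD_fst k t V).symm)
  let A2 := ((EtCoh.pullPushAdj t).comp (EtCoh.pullPushAdj k)).ofNatIsoRight (EtCoh.pushComp t k)
  have hu : (EtCoh.pullPushAdj (k ≫ t)).unit.app G ≫
      (EtCoh.push (k ≫ t)).map ((EtCore.pullComp k t).hom.app G) = A2.unit.app G :=
    Adjunction.unit_leftAdjointUniq_hom_app (EtCoh.pullPushAdj (k ≫ t)) A2 G
  have hu2 : A2.unit.app G = (EtCoh.pullPushAdj t).unit.app G ≫
      (EtCoh.push t).map ((EtCoh.pullPushAdj k).unit.app ((EtCoh.pull t).obj G)) ≫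
        (EtCoh.pushComp t k).hom.app _ := by
    simp [A2]
  have hθ : (θ k t (k ≫ t) rfl).hom.app G = (EtCore.pullComp k t).inv.app G := by
    simp [θ, EtCore.pullCongr]
  have h3 : (EtCoh.pullPushAdj (k ≫ t)).unit.app G =
      (EtCoh.pullPushAdj t).unit.app G ≫
      (EtCoh.push t).map ((EtCoh.pullPushAdj k).unit.app ((EtCoh.pull t).obj G)) ≫
        (EtCoh.pushComp t k).hom.app _ ≫
          (EtCoh.push (k ≫ t)).map ((θ k t (k ≫ t) rfl).hom.app G) := by
    rw [hθ]
    have := congrArg (· ≫ (EtCoh.push (k ≫ t)).map ((EtCore.pullComp k t).inv.app G)) (hu.trans hu2)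
    simp only [Category.assoc, ← Functor.map_comp, Iso.hom_inv_id_app, CategoryTheory.Functor.map_id] at this
    exact this
  set φ := (θ k t (k ≫ t) rfl).hom.app G
  have h4 : up (k ≫ t) G V a =
      φ.hom.app (op ((EtCoh.bc (k ≫ t)).obj V))
        (((EtCoh.pull k).obj ((EtCoh.pull t).obj G)).obj.map
          ((MorphismProperty.Over.pullbackComp (P := EtCoh.etaleMP) (Q := ⊤) k t).hom.app V).op
          (up k _ _ (up t G V a))) :=
    ConcreteCategory.congr_hom (NatTrans.congr_app (congrArg (fun z => z.hom) h3) (op V)) a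
  rw [h4]
  let m := (MorphismProperty.Over.pullbackComp (P := EtCoh.etaleMP) (Q := ⊤) k t).hom.app V
  have h5 : bcD k t V ≫ m = 𝟙 _ :=
    ((MorphismProperty.Over.pullbackComp (P := EtCoh.etaleMP) (Q := ⊤) k t).app V).inv_hom_id
  let P := ((EtCoh.pull k).obj ((EtCoh.pull t).obj G)).obj
  let x := up k _ _ (up t G V a)
  have h6 : P.map (bcD k t V).op (P.map m.op x) = x :=
    ((ConcreteCategory.comp_apply _ _ _).symm.trans
      (ConcreteCategory.congr_hom ((P.map_comp _ _).symm.trans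
        ((congrArg (fun z => P.map z) ((op_comp).symm.trans (congrArg Quiver.Hom.op h5))).trans
          (P.map_id _))) x))
  exact (congrArg (φ.hom.app _) h6.symm).trans (φ.hom.naturality_apply (bcD k t V).op (P.map m.op x))

/-- Associativity of the composition isomorphisms. -/
theorem θ_assoc {U W W' : Scheme.{u}} (k' : W' ⟶ W) (k : W ⟶ U) (j : U ⟶ Z) (w : W ⟶ Z) (e : k ≫ j = w)
    (kk : W' ⟶ U) (ekk : k' ≫ k = kk) (w' : W' ⟶ Z) (e' : k' ≫ w = w') (e'' : kk ≫ j = w')
    (G : EtCoh.Ab Z) :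
    (EtCoh.pull k').map ((θ k j w e).hom.app G) ≫ (θ k' w w' e').hom.app G =
      (θ k' k kk ekk).hom.app ((EtCoh.pull j).obj G) ≫ (θ kk j w' e'').hom.app G := by
  subst e ekk
  refine push_hom_ext₃ k' k j fun V a => ?_
  let d₀ := bcD k j V
  have h1 := bcD_fst k j V
  obtain ⟨d₁, h2⟩ : ∃ d : (EtCoh.bc k').obj ((EtCoh.bc (k ≫ j)).obj V) ⟶ (EtCoh.bc w').obj V,
      d.left ≫ pullback.fst V.hom w' =
      pullback.fst ((EtCoh.bc (k ≫ j)).obj V).hom k' ≫ pullback.fst V.hom (k ≫ j) := by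
    subst e'
    exact ⟨bcD k' (k ≫ j) V, bcD_fst k' (k ≫ j) V⟩
  let d₂ := bcD k' k ((EtCoh.bc j).obj V)
  have h3 := bcD_fst k' k ((EtCoh.bc j).obj V)
  obtain ⟨d₃, h4⟩ : ∃ d : (EtCoh.bc (k' ≫ k)).obj ((EtCoh.bc j).obj V) ⟶ (EtCoh.bc w').obj V,
      d.left ≫ pullback.fst V.hom w' =
      pullback.fst ((EtCoh.bc j).obj V).hom (k' ≫ k) ≫ pullback.fst V.hom j := by
    subst e''
    exact ⟨bcD (k' ≫ k) j V, bcD_fst (k' ≫ k) j V⟩
  refine ((congrArg (((θ k' (k ≫ j) w' e').hom.app G).hom.app _)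
    ((up_natural k' ((θ k j (k ≫ j) rfl).hom.app G) _ _).trans
      ((congrArg (up k' _ _) (θ_up k j (k ≫ j) rfl G V a d₀ h1)).trans (up_res k' _ d₀ _)))).trans
    (((θ k' (k ≫ j) w' e').hom.app G).hom.naturality_apply _ _)).trans ?_
  refine (congrArg (((EtCoh.pull w').obj G).obj.map _) (θ_up k' (k ≫ j) w' e' G V a d₁ h2)).trans ?_
  refine Eq.trans ?_ ((congrArg (((θ (k' ≫ k) j w' e'').hom.app G).hom.app _)
    (θ_up k' k (k' ≫ k) rfl _ _ _ d₂ h3)).trans
    ((((θ (k' ≫ k) j w' e'').hom.app G).hom.naturality_apply _ _).trans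
      (congrArg (((EtCoh.pull w').obj G).obj.map _) (θ_up (k' ≫ k) j w' e'' G V a d₃ h4)))).symm
  rw [← ConcreteCategory.comp_apply, ← ConcreteCategory.comp_apply, ← Functor.map_comp,
    ← Functor.map_comp, ← op_comp, ← op_comp]
  have hk : (EtCoh.bc k').map d₀ ≫ d₁ = d₂ ≫ d₃ := by
    refine bc_hom_ext _ ?_
    have hm : ((EtCoh.bc k').map d₀).left ≫ pullback.fst ((EtCoh.bc (k ≫ j)).obj V).hom k' =
        pullback.fst ((EtCoh.bc k).obj ((EtCoh.bc j).obj V)).hom k' ≫ d₀.left := by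
      exact (EtCoh.isPullback_bc_map k' d₀).w
    refine (Category.assoc _ _ _).trans ((congrArg (_ ≫ ·) h2).trans ((Category.assoc _ _ _).symm.trans
      ((congrArg (· ≫ _) hm).trans ((Category.assoc _ _ _).trans ((congrArg (_ ≫ ·) h1).trans ?_)))))
    exact ((Category.assoc _ _ _).symm.trans ((congrArg (· ≫ _) h3.symm).trans
      ((Category.assoc _ _ _).trans ((congrArg (_ ≫ ·) h4.symm).trans (Category.assoc _ _ _).symm))))
  rw [hk]

end Groth.Agent.EtDescSplit
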