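import Groth.Prelude.Def_SpSeq
import Mathlib.Algebra.Homology.Embedding.ExtendHomology
import Mathlib.Algebra.Homology.Embedding.Basic
import Mathlib.Algebra.Homology.ShortComplex.HomologicalComplex
import Mathlib.Algebra.Homology.HomologicalComplexAbelian
import Mathlib.Order.Interval.Set.Fin
import Mathlib.Data.Int.Interval

/-!
# The spectral sequence of a family of complexes acyclic in positive degrees
-/

universe v u

open CategoryTheory CategoryTheory.Limits
open scoped ZeroObject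

namespace Groth.Agent.EtDescSplit

variable {C : Type u} [Category.{v} C] [Abelian C]

open ComplexShape

variable (M : ℕ → CochainComplex C ℕ)

/-- The row `q` of the first page. -/
noncomputable def row (q : ℤ) : CochainComplex C ℤ :=
  if 0 ≤ q then (M q.toNat).extend embeddingUpNat else 0

/-- The first page. -/
noncomputable def page1 : HomologicalComplex C (ComplexShape.up' ((1, 1 - 1) : ℤ × ℤ)) where
  X pq := (row M pq.2).X pq.1
  d pq pq' := if h : pq.2 = pq'.2 then (row M pq.2).d pq.1 pq'.1 ≫ eqToHom (by rw [h]) else 0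
  shape pq pq' h := by
    split_ifs with hq
    · rw [(row M pq.2).shape pq.1 pq'.1, zero_comp]
      intro hp
      exact h (show pq + (1, 1 - 1) = pq' from Prod.ext hp (by simpa using hq))
    · rfl
  d_comp_d' a b c _ _ := by
    obtain ⟨p₁, q₁⟩ := a
    obtain ⟨p₂, q₂⟩ := b
    obtain ⟨p₃, q₃⟩ := c
    by_cases h₁ : q₁ = q₂
    · by_cases h₂ : q₂ = q₃
      · subst h₁ h₂
        simp
      · simp [h₂]
    · simp [h₁]

lemma page1_d (p p' q : ℤ) : (page1 M).d (p, q) (p', q) = (row M q).d p p' := by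
  simp [page1]

/-- The homology of the first page is the homology of the rows. -/
noncomputable def page1HomologyIso (p q : ℤ) : (page1 M).homology (p, q) ≅ (row M q).homology p :=
  ShortComplex.homologyMapIso
    (((page1 M).isoSc' (p - 1, q) (p, q) (p + 1, q)
      ((ComplexShape.up' ((1, 1 - 1) : ℤ × ℤ)).prev_eq' (show (p - 1, q) + (1, 1 - 1) = (p, q) by simp))
      ((ComplexShape.up' ((1, 1 - 1) : ℤ × ℤ)).next_eq' (show (p, q) + (1, 1 - 1) = (p + 1, q) by simp))) ≪≫
    (ShortComplex.isoMk (Iso.refl _) (Iso.refl _) (Iso.refl _)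
      (((Category.id_comp _).trans (page1_d M (p - 1) p q).symm).trans (Category.comp_id _).symm)
      (((Category.id_comp _).trans (page1_d M p (p + 1) q).symm).trans (Category.comp_id _).symm) :
      (page1 M).sc' (p - 1, q) (p, q) (p + 1, q) ≅ (row M q).sc' (p - 1) p (p + 1)) ≪≫
    ((row M q).isoSc' (p - 1) p (p + 1) (by simp) (by simp)).symm)

lemma isZero_row_homology (p q : ℤ) (hM : ∀ n m, (M n).ExactAt (m + 1)) (h : p ≠ 0 ∨ q < 0) :
    IsZero ((row M q).homology p) := by
  by_cases hq : 0 ≤ q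
  · rw [row, if_pos hq]
    by_cases hp : 0 ≤ p
    · obtain ⟨m, rfl⟩ : ∃ m : ℕ, p = (m + 1 : ℕ) := ⟨(p - 1).toNat, by omega⟩
      exact ((HomologicalComplex.exactAt_iff_isZero_homology _ _).1 (hM _ m)).of_iso
        (HomologicalComplex.extendHomologyIso _ embeddingUpNat (j := m + 1) rfl)
    · exact (HomologicalComplex.exactAt_iff_isZero_homology _ _).1
        (HomologicalComplex.extend_exactAt _ _ p (fun i hi => hp (by rw [← hi]; simp)))
  · rw [row, if_neg hq, ← HomologicalComplex.exactAt_iff_isZero_homology]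
    exact ShortComplex.exact_of_isZero_X₂ _
      ((HomologicalComplex.eval C (ComplexShape.up ℤ) p).map_isZero (isZero_zero _))

variable {M}
variable {Hc : ℤ → C} (hM : ∀ n m, (M n).ExactAt (m + 1)) (hneg : ∀ n < 0, IsZero (Hc n))
  (e : ∀ q : ℕ, (M q).homology 0 ≅ Hc q)

/-- The objects of the later pages: a single column. -/
noncomputable def col (Hc : ℤ → C) (pq : ℤ × ℤ) : C := if pq.1 = 0 then Hc pq.2 else 0

include hM hneg e in
lemma nonempty_homology_iso_col (pq : ℤ × ℤ) : Nonempty ((page1 M).homology pq ≅ col Hc pq) := by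
  obtain ⟨p, q⟩ := pq
  by_cases hp : p = 0
  · subst hp
    rw [show col Hc ((0 : ℤ), q) = Hc q from if_pos rfl]
    by_cases hq : 0 ≤ q
    · obtain ⟨n, rfl⟩ := Int.eq_ofNat_of_zero_le hq
      refine ⟨page1HomologyIso M 0 n ≪≫ ?_⟩
      exact eqToIso (by rw [row, if_pos hq]; rfl) ≪≫
        HomologicalComplex.extendHomologyIso (M n) embeddingUpNat (j := 0) rfl ≪≫ e n
    · exact ⟨page1HomologyIso M 0 q ≪≫
        (isZero_row_homology M 0 q hM (Or.inr (by omega))).iso (hneg q (by omega))⟩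
  · rw [show col Hc (p, q) = 0 from if_neg hp]
    exact ⟨page1HomologyIso M p q ≪≫
      (isZero_row_homology M p q hM (Or.inl hp)).iso (isZero_zero _)⟩

/-- A page with zero differentials. -/
noncomputable def colPage (Hc : ℤ → C) (r : ℤ) :
    HomologicalComplex C (ComplexShape.up' ((r, 1 - r) : ℤ × ℤ)) where
  X := col Hc
  d _ _ := 0

/-- The pages. -/
noncomputable def pages (M : ℕ → CochainComplex C ℕ) (Hc : ℤ → C) (r : ℤ) :
    HomologicalComplex C (ComplexShape.up' ((r, 1 - r) : ℤ × ℤ)) :=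
  if h : r = 1 then h.symm ▸ page1 M else colPage Hc r

lemma pages_one : pages M Hc 1 = page1 M := dif_pos rfl

lemma pages_of_ne {r : ℤ} (h : r ≠ 1) : pages M Hc r = colPage Hc r := dif_neg h

include hM hneg e in
lemma nonempty_iso (r r' : ℤ) (pq : ℤ × ℤ) (hrr' : r + 1 = r') (hr : 1 ≤ r) :
    Nonempty ((pages M Hc r).homology pq ≅ (pages M Hc r').X pq) := by
  have e₂ : (pages M Hc r').X pq = col Hc pq := by
    rw [pages_of_ne (by omega)]; rfl
  by_cases h : r = 1
  · subst h
    obtain ⟨i⟩ := nonempty_homology_iso_col hM hneg e pq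
    exact ⟨eqToIso (by rw [pages_one]) ≪≫ i ≪≫ eqToIso e₂.symm⟩
  · have : IsIso ((colPage Hc r).homologyπ pq) :=
      (colPage Hc r).isIso_homologyπ _ pq rfl rfl
    have : IsIso ((colPage Hc r).iCycles pq) :=
      (colPage Hc r).isIso_iCycles pq _ rfl rfl
    exact ⟨eqToIso (by rw [pages_of_ne h]) ≪≫
      (asIso ((colPage Hc r).homologyπ pq)).symm ≪≫ asIso ((colPage Hc r).iCycles pq) ≪≫
        eqToIso e₂.symm⟩

/-- The spectral sequence. -/
noncomputable def colSS : CohomologicalSpectralSequence C 1 where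
  page r _ := pages M Hc r
  iso r r' pq hrr' hr := Classical.choice (nonempty_iso hM hneg e r r' pq hrr' hr)

/-- The filtration: everything up to `0`, nothing after. -/
noncomputable def colFil (Hc : ℤ → C) (n p : ℤ) : Subobject (Hc n) := if p ≤ 0 then ⊤ else ⊥

lemma colFil_anti (n : ℤ) : Antitone (colFil Hc n) := fun p p' h => by
  by_cases hp : p ≤ 0
  · exact le_of_le_of_eq le_top (if_pos hp).symm
  · exact (if_neg (show ¬ p' ≤ 0 by omega)).trans_le bot_le

lemma isZero_subquot_self {X : C} (Z B : Subobject X) (h : Z = B) (h' : B ≤ Z) :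
    IsZero (SpSeq.subquot Z B h') := by
  subst h
  have : IsIso (Z.ofLE Z h') := by
    rw [Subobject.ofLE_refl]; infer_instance
  exact IsZero.of_iso (isZero_zero C) (cokernel.ofEpi _)

lemma nonempty_top_bot {X : C} (Z B : Subobject X) (hZ : Z = ⊤) (hB : B = ⊥) (h' : B ≤ Z) :
    Nonempty (SpSeq.subquot Z B h' ≅ X) := by
  subst hZ hB
  have h0 : ((⊥ : Subobject X).ofLE ⊤ h') = 0 :=
    (IsZero.of_iso (isZero_zero C) Subobject.botCoeIsoZero).eq_of_src _ _
  exact ⟨cokernelIsoOfEq h0 ≪≫ cokernelZeroIsoTarget ≪≫ asIso (⊤ : Subobject X).arrow⟩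

lemma nonempty_β (pq : ℤ × ℤ) :
    Nonempty (col Hc pq ≅ SpSeq.grPiece (colFil Hc (pq.1 + pq.2)) (colFil_anti _) pq.1) := by
  obtain ⟨p, q⟩ := pq
  by_cases hp : p = 0
  · subst hp
    obtain ⟨i⟩ := nonempty_top_bot (colFil Hc ((0 : ℤ) + q) 0) (colFil Hc ((0 : ℤ) + q) (0 + 1))
      (if_pos le_rfl) (if_neg (by omega)) (colFil_anti _ (by omega))
    exact ⟨eqToIso (by simp [col]) ≪≫ i.symm⟩
  · refine ⟨IsZero.iso (by rw [show col Hc (p, q) = 0 from if_neg hp]; exact isZero_zero C) ?_⟩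
    refine isZero_subquot_self _ _ ?_ _
    unfold colFil
    by_cases h : p ≤ 0
    · rw [if_pos h, if_pos (show p + 1 ≤ 0 by omega)]
    · rw [if_neg h, if_neg (show ¬ p + 1 ≤ 0 by omega)]

include hM hneg e in
/-- Spectral sequence with first page `M`, abutting to the degree zero homology. -/
theorem exists_spectralSequence (T : ℤ → ℤ → C)
    (hT : ∀ p q : ℕ, Nonempty ((M q).X p ≅ T p q))
    (hT' : ∀ p q : ℤ, p < 0 ∨ q < 0 → IsZero (T p q)) :
    ∃ (E : CohomologicalSpectralSequence C 1) (a : SpSeq.Abutment E Hc),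
      (∀ n, a.IsFinite n) ∧ SpSeq.IsBounded E ∧
      ∀ p q : ℤ, Nonempty ((E.page 1 le_rfl).X (p, q) ≅ T p q) := by
  have hd : ∀ r : ℤ, 2 ≤ r → ∀ a b, (pages M Hc r).d a b = 0 := fun r hr a b => by
    rw [pages_of_ne (by omega)]; rfl
  have e2 : ∀ pq, (pages M Hc 2).X pq = col Hc pq := fun pq => by rw [pages_of_ne (by omega)]; rfl
  have hX : ∀ pq, (pages M Hc 1).X pq = (row M pq.2).X pq.1 := fun pq => by rw [pages_one]; rfl
  have hz : ∀ p q : ℤ, p < 0 ∨ q < 0 → IsZero ((row M q).X p) := fun p q h => by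
    by_cases hq : 0 ≤ q
    · rw [row, if_pos hq]
      exact HomologicalComplex.isZero_extend_X _ _ p fun i hi => by
        rcases h with h | h
        · rw [← hi] at h; simp at h; omega
        · omega
    · rw [row, if_neg hq]
      exact (HomologicalComplex.eval C (ComplexShape.up ℤ) p).map_isZero (isZero_zero _)
  let a : SpSeq.Abutment (colSS hM hneg e) Hc :=
    { fil := colFil Hc
      anti := colFil_anti
      rk := fun _ => 2
      stat := fun pq => ⟨by omega, fun r' h₀ hr => ⟨hd r' hr _ _, hd r' hr _ _⟩⟩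
      β := fun pq => eqToIso (e2 pq) ≪≫ Classical.choice (nonempty_β pq) }
  refine ⟨colSS hM hneg e, a, fun n => ⟨⟨0, show colFil Hc n 0 = ⊤ from if_pos le_rfl⟩, ⟨1, show colFil Hc n 1 = ⊥ from if_neg (by omega)⟩⟩, fun n => ?_,
    fun p q => ?_⟩
  · refine (Set.finite_Icc (0 : ℤ) n).subset fun p hp => ?_
    by_contra hc
    refine hp ((hX (p, n - p)).symm ▸ hz p (n - p) ?_)
    simp only [Set.mem_Icc, not_and_or, not_le] at hc
    omega
  · by_cases h : p < 0 ∨ q < 0
    · exact ⟨eqToIso (hX (p, q)) ≪≫ (hz p q h).iso (hT' p q h)⟩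
    · obtain ⟨m, rfl⟩ := Int.eq_ofNat_of_zero_le (show 0 ≤ p by omega)
      obtain ⟨n, rfl⟩ := Int.eq_ofNat_of_zero_le (show 0 ≤ q by omega)
      obtain ⟨i⟩ := hT m n
      exact ⟨eqToIso (hX ((m : ℤ), (n : ℤ))) ≪≫ eqToIso (by rw [row, if_pos (by omega)]; rfl) ≪≫
        HomologicalComplex.extendXIso _ embeddingUpNat (i := m) rfl ≪≫ i⟩

end Groth.Agent.EtDescSplit
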