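import Groth.Agent.EtDescSplit.ColumnSS

/-!
# Prepending a first page to a spectral sequence starting at page two
-/

universe v u

open CategoryTheory CategoryTheory.Limits

namespace Groth.Agent.EtDescSplit

variable {C : Type u} [Category.{v} C] [Abelian C]

open ComplexShape

variable (M : ℕ → CochainComplex C ℕ)

lemma isZero_row_X (p q : ℤ) (h : p < 0 ∨ q < 0) : IsZero ((row M q).X p) := by
  by_cases hq : 0 ≤ q
  · rw [row, if_pos hq]
    exact HomologicalComplex.isZero_extend_X _ _ p fun i hi => by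
      rcases h with h | h
      · rw [← hi] at h; simp at h; omega
      · omega
  · rw [row, if_neg hq]
    exact (HomologicalComplex.eval C (ComplexShape.up ℤ) p).map_isZero (isZero_zero _)

lemma isZero_page1_homology (p q : ℤ) (h : p < 0 ∨ q < 0) : IsZero ((page1 M).homology (p, q)) :=
  ((HomologicalComplex.exactAt_iff_isZero_homology _ _).1
    (ShortComplex.exact_of_isZero_X₂ _ (isZero_row_X M p q h))).of_iso (page1HomologyIso M p q)

variable (E : E₂CohomologicalSpectralSequence C)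

/-- The pages. -/
noncomputable def prependPage (r : ℤ) (hr : 1 ≤ r) :
    HomologicalComplex C (ComplexShape.up' ((r, 1 - r) : ℤ × ℤ)) :=
  if h : r = 1 then h.symm ▸ page1 M else E.page r (by omega)

lemma prependPage_one : prependPage M E 1 le_rfl = page1 M := dif_pos rfl

lemma prependPage_of_le {r : ℤ} (hr : 1 ≤ r) (h : 2 ≤ r) : prependPage M E r hr = E.page r h :=
  dif_neg (by omega)

variable {E} (h₂ : ∀ p q : ℕ, Nonempty ((E.page 2 le_rfl).X ((p : ℤ), (q : ℤ)) ≅ (M q).homology p))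
  (hz : ∀ p q : ℤ, p < 0 ∨ q < 0 → IsZero ((E.page 2 le_rfl).X (p, q)))

include h₂ hz in
lemma nonempty_page1_iso (pq : ℤ × ℤ) : Nonempty ((page1 M).homology pq ≅ (E.page 2 le_rfl).X pq) := by
  obtain ⟨p, q⟩ := pq
  by_cases h : p < 0 ∨ q < 0
  · exact ⟨(isZero_page1_homology M p q h).iso (hz p q h)⟩
  · obtain ⟨m, rfl⟩ := Int.eq_ofNat_of_zero_le (show 0 ≤ p by omega)
    obtain ⟨n, rfl⟩ := Int.eq_ofNat_of_zero_le (show 0 ≤ q by omega)
    exact ⟨page1HomologyIso M m n ≪≫ eqToIso (by rw [row, if_pos (Int.natCast_nonneg n)]; rfl) ≪≫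
      HomologicalComplex.extendHomologyIso (M n) embeddingUpNat (j := m) rfl ≪≫ (h₂ m n).some.symm⟩

include h₂ hz in
lemma nonempty_prepend_iso (r r' : ℤ) (pq : ℤ × ℤ) (hrr' : r + 1 = r') (hr : 1 ≤ r) :
    Nonempty ((prependPage M E r hr).homology pq ≅ (prependPage M E r' (by omega)).X pq) := by
  by_cases h : r = 1
  · subst h
    obtain rfl : r' = 2 := by omega
    obtain ⟨i⟩ := nonempty_page1_iso M h₂ hz pq
    exact ⟨eqToIso (by rw [prependPage_one]) ≪≫ i ≪≫
      eqToIso (by rw [prependPage_of_le M E (by omega) le_rfl])⟩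
  · exact ⟨eqToIso (by rw [prependPage_of_le M E hr (by omega)]) ≪≫ E.iso r r' pq hrr' (by omega) ≪≫
      eqToIso (by rw [prependPage_of_le M E (by omega) (by omega)])⟩

/-- The spectral sequence. -/
noncomputable def prependSS : CohomologicalSpectralSequence C 1 where
  page r hr := prependPage M E r hr
  iso r r' pq hrr' hr := Classical.choice (nonempty_prepend_iso M h₂ hz r r' pq hrr' hr)

include h₂ hz in
/-- Spectral sequence with first page `M`, continued by `E`. -/
theorem exists_spectralSequence_of_pageTwo {Hc : ℤ → C} (a : SpSeq.Abutment E Hc) (ha : ∀ n, a.IsFinite n)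
    (T : ℤ → ℤ → C) (hT : ∀ p q : ℕ, Nonempty ((M q).X p ≅ T p q))
    (hT' : ∀ p q : ℤ, p < 0 ∨ q < 0 → IsZero (T p q)) :
    ∃ (E' : CohomologicalSpectralSequence C 1) (a' : SpSeq.Abutment E' Hc),
      (∀ n, a'.IsFinite n) ∧ SpSeq.IsBounded E' ∧
      ∀ p q : ℤ, Nonempty ((E'.page 1 le_rfl).X (p, q) ≅ T p q) := by
  have hX : ∀ pq, (prependPage M E 1 le_rfl).X pq = (row M pq.2).X pq.1 := fun pq => by
    rw [prependPage_one]; rfl
  have hrk : ∀ pq, 2 ≤ a.rk pq := fun pq => (a.stat pq).1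
  let a' : SpSeq.Abutment (prependSS M h₂ hz) Hc :=
    { fil := a.fil
      anti := a.anti
      rk := a.rk
      stat := fun pq => ⟨le_trans (by omega) (hrk pq), fun r' h₀ hr => by
        have h2 : 2 ≤ r' := (hrk pq).trans hr
        show (prependPage M E r' h₀).d _ _ = 0 ∧ (prependPage M E r' h₀).d _ _ = 0
        rw [prependPage_of_le M E h₀ h2]
        exact (a.stat pq).2 r' h2 hr⟩
      β := fun pq => eqToIso (congrArg (fun K => HomologicalComplex.X K pq)
        (prependPage_of_le M E (le_trans (by omega) (hrk pq)) (hrk pq))) ≪≫ a.β pq }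
  refine ⟨prependSS M h₂ hz, a', ha, fun n => ?_, fun p q => ?_⟩
  · refine (Set.finite_Icc (0 : ℤ) n).subset fun p hp => ?_
    by_contra hc
    refine hp ((hX (p, n - p)).symm ▸ isZero_row_X M p (n - p) ?_)
    simp only [Set.mem_Icc, not_and_or, not_le] at hc
    omega
  · by_cases h : p < 0 ∨ q < 0
    · exact ⟨eqToIso (hX (p, q)) ≪≫ (isZero_row_X M p q h).iso (hT' p q h)⟩
    · obtain ⟨m, rfl⟩ := Int.eq_ofNat_of_zero_le (show 0 ≤ p by omega)
      obtain ⟨n, rfl⟩ := Int.eq_ofNat_of_zero_le (show 0 ≤ q by omega)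
      obtain ⟨i⟩ := hT m n
      exact ⟨eqToIso (hX ((m : ℤ), (n : ℤ))) ≪≫ eqToIso (by rw [row, if_pos (by omega)]; rfl) ≪≫
        HomologicalComplex.extendXIso _ embeddingUpNat (i := m) rfl ≪≫ i⟩

end Groth.Agent.EtDescSplit
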