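import Mathlib.AlgebraicTopology.AlternatingFaceMapComplex
import Mathlib.Algebra.Category.Grp.Basic
import Mathlib.Algebra.Category.Grp.Abelian
import Mathlib.Algebra.Homology.ShortComplex.Ab
import Mathlib.Algebra.Homology.ShortComplex.HomologicalComplex
import Mathlib.Algebra.BigOperators.Fin
import Mathlib.CategoryTheory.Comma.Over.Basic
import Mathlib.CategoryTheory.Limits.Shapes.WidePullbacks

/-!
# The Cech complex of a split morphism is split exact
-/

universe w v u

open CategoryTheory CategoryTheory.Limits Opposite Simplicial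

namespace Groth.Agent.EtDescSplit

variable {C : Type u} [Category.{v} C] {X Y : C} (f : X ⟶ Y)
  [∀ n : ℕ, HasWidePullback Y (fun _ : Fin n => X) (fun _ => f)]

/-- The fibre power, as an object over `Y`. -/
noncomputable abbrev pow (n : ℕ) : Over Y :=
  Over.mk (WidePullback.base (fun _ : Fin (n + 1) => f) :
    widePullback Y (fun _ : Fin (n + 1) => X) (fun _ => f) ⟶ Y)

/-- The map of fibre powers of a map of index sets. -/
noncomputable def powMap {m n : ℕ} (α : Fin (m + 1) → Fin (n + 1)) : pow f n ⟶ pow f m :=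
  Over.homMk (WidePullback.lift (WidePullback.base _) (fun i => WidePullback.π _ (α i))
    fun i => WidePullback.π_arrow _ _) (WidePullback.lift_base _ _ _ _)

lemma powMap_π {m n : ℕ} (α : Fin (m + 1) → Fin (n + 1)) (i : Fin (m + 1)) :
    (powMap f α).left ≫ WidePullback.π _ i = WidePullback.π _ (α i) :=
  WidePullback.lift_π _ _ _ _ _

lemma pow_hom_ext {Z : Over Y} {n : ℕ} {a b : Z ⟶ pow f n}
    (h : ∀ i : Fin (n + 1), a.left ≫ WidePullback.π (fun _ : Fin (n + 1) => f) i =
      b.left ≫ WidePullback.π (fun _ : Fin (n + 1) => f) i) : a = b :=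
  Over.OverMorphism.ext (WidePullback.hom_ext _ _ _ h ((Over.w a).trans (Over.w b).symm))

/-- The simplicial object of fibre powers. -/
noncomputable def powSimp : SimplicialObject (Over Y) where
  obj n := pow f n.unop.len
  map g := powMap f g.unop.toOrderHom
  map_id n := pow_hom_ext f fun i => (powMap_π f _ i).trans (Category.id_comp _).symm
  map_comp g g' := pow_hom_ext f fun i => by
    rw [Over.comp_left, Category.assoc]
    erw [powMap_π, powMap_π, powMap_π]
    rfl

variable (G : (Over Y)ᵒᵖ ⥤ AddCommGrpCat.{w})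

/-- The complex of the values on the fibre powers. -/
noncomputable abbrev powCx : CochainComplex AddCommGrpCat.{w} ℕ :=
  (AlgebraicTopology.alternatingCofaceMapComplex AddCommGrpCat.{w}).obj
    ((powSimp f).rightOp ⋙ G)

lemma powCx_d_apply (n : ℕ) (x : G.obj (op (pow f n))) :
    ((powCx f G).d n (n + 1) x : G.obj (op (pow f (n + 1)))) = ∑ i : Fin (n + 2), (-1 : ℤ) ^ (i : ℕ) •
      G.map (powMap f i.succAbove).op x := by
  have hd : (powCx f G).d n (n + 1) = ∑ i : Fin (n + 2), (-1 : ℤ) ^ (i : ℕ) •
      CosimplicialObject.δ ((powSimp f).rightOp ⋙ G : CosimplicialObject AddCommGrpCat.{w}) i := by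
    dsimp only [powCx, AlgebraicTopology.alternatingCofaceMapComplex,
      AlgebraicTopology.AlternatingCofaceMapComplex.obj]
    rw [CochainComplex.of_d, AlgebraicTopology.AlternatingCofaceMapComplex.objD]
  let ev : (G.obj (op (pow f n)) ⟶ G.obj (op (pow f (n + 1)))) →+ G.obj (op (pow f (n + 1))) :=
    AddMonoidHom.mk' (fun φ => φ x) (fun _ _ => rfl)
  show ev ((powCx f G).d n (n + 1)) = _
  rw [hd]
  refine (map_sum ev _ _).trans (Finset.sum_congr rfl fun i _ => ?_)
  exact map_zsmul ev _ _

/-- The alternating sum of the restriction maps. -/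
noncomputable def dd (n : ℕ) : G.obj (op (pow f n)) →+ G.obj (op (pow f (n + 1))) :=
  ∑ i : Fin (n + 2), (-1 : ℤ) ^ (i : ℕ) • (G.map (powMap f i.succAbove).op).hom

lemma dd_apply (n : ℕ) (x : G.obj (op (pow f n))) :
    dd f G n x = ∑ i : Fin (n + 2), (-1 : ℤ) ^ (i : ℕ) • G.map (powMap f i.succAbove).op x := by
  simp [dd]

lemma d_eq (n : ℕ) (x : G.obj (op (pow f n))) : (powCx f G).d n (n + 1) x = dd f G n x :=
  (powCx_d_apply f G n x).trans (dd_apply f G n x).symm

variable (s : Y ⟶ X) (hs : s ≫ f = 𝟙 Y)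

/-- The extra degeneracy. -/
noncomputable def extra (n : ℕ) : pow f n ⟶ pow f (n + 1) :=
  Over.homMk (WidePullback.lift (WidePullback.base _)
    (Fin.cons (WidePullback.base _ ≫ s) fun i => WidePullback.π _ i)
    (by
      intro j
      induction j using Fin.cases with
      | zero => simp [hs]
      | succ i => simpa using WidePullback.π_arrow (fun _ : Fin (n + 1) => f) i))
    (WidePullback.lift_base _ _ _ _)

lemma extra_π_zero (n : ℕ) :
    (extra f s hs n).left ≫ WidePullback.π _ 0 =
      WidePullback.base (fun _ : Fin (n + 1) => f) ≫ s := by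
  exact (WidePullback.lift_π _ _ _ _ _).trans (Fin.cons_zero _ _)

lemma extra_π_succ (n : ℕ) (i : Fin (n + 1)) :
    (extra f s hs n).left ≫ WidePullback.π _ i.succ = WidePullback.π (fun _ : Fin (n + 1) => f) i := by
  exact (WidePullback.lift_π _ _ _ _ _).trans (Fin.cons_succ _ _ _)

lemma extra_comp_zero (n : ℕ) :
    extra f s hs n ≫ powMap f (0 : Fin (n + 2)).succAbove = 𝟙 _ :=
  pow_hom_ext f fun i => by
    rw [Over.comp_left, Category.assoc, powMap_π, Fin.succAbove_zero, extra_π_succ]
    exact (Category.id_comp _).symm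

lemma extra_comp_succ (n : ℕ) (j : Fin (n + 2)) :
    extra f s hs (n + 1) ≫ powMap f j.succ.succAbove = powMap f j.succAbove ≫ extra f s hs n :=
  pow_hom_ext f fun i => by
    rw [Over.comp_left, Over.comp_left, Category.assoc, Category.assoc, powMap_π]
    induction i using Fin.cases with
    | zero =>
      rw [Fin.succ_succAbove_zero, extra_π_zero, extra_π_zero, ← Category.assoc]
      exact congrArg (· ≫ s) (Over.w (powMap f j.succAbove)).symm
    | succ i => rw [Fin.succ_succAbove_succ, extra_π_succ, extra_π_succ, powMap_π]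

/-- The augmentation. -/
noncomputable def aug (n : ℕ) : pow f n ⟶ Over.mk (𝟙 Y) :=
  Over.homMk (WidePullback.base _) (Category.comp_id _)

/-- The section. -/
noncomputable def sec : Over.mk (𝟙 Y) ⟶ pow f 0 :=
  Over.homMk (show Y ⟶ widePullback Y (fun _ : Fin 1 => X) (fun _ => f) from
    WidePullback.lift (𝟙 Y) (fun _ => s) (fun _ => hs)) (WidePullback.lift_base _ _ _ _)

include hs in
lemma extra_comp_one : extra f s hs 0 ≫ powMap f (1 : Fin 2).succAbove = aug f 0 ≫ sec f s hs :=
  pow_hom_ext f fun i => by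
    obtain rfl : i = 0 := @Subsingleton.elim (Fin 1) _ _ _
    rw [Over.comp_left, Over.comp_left, Category.assoc, Category.assoc, powMap_π]
    rw [show (1 : Fin 2).succAbove (0 : Fin 1) = 0 from rfl, extra_π_zero]
    exact congrArg (WidePullback.base _ ≫ ·)
      (WidePullback.lift_π (fun _ : Fin 1 => f) (𝟙 Y) (fun _ => s) (fun _ => hs) 0).symm

lemma map_op_comp {A B D : Over Y} (a : A ⟶ B) (b : B ⟶ D) (x : G.obj (op D)) :
    G.map a.op (G.map b.op x) = G.map (a ≫ b).op x := by
  rw [op_comp, Functor.map_comp]; rfl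

include hs in
/-- The homotopy identity. -/
lemma extra_d (n : ℕ) (x : G.obj (op (pow f (n + 1)))) :
    G.map (extra f s hs (n + 1)).op (dd f G (n + 1) x) =
      x - dd f G n (G.map (extra f s hs n).op x) := by
  rw [dd_apply, dd_apply, map_sum, Fin.sum_univ_succ, ← sub_eq_zero]
  simp only [map_zsmul, map_op_comp, extra_comp_succ, Fin.val_succ, pow_succ, extra_comp_zero,
    op_id, CategoryTheory.Functor.map_id, Fin.val_zero, pow_zero, one_smul]
  simp [Finset.sum_neg_distrib, mul_smul]

include hs in
lemma cocycle_eq_boundary (n : ℕ) (x : G.obj (op (pow f (n + 1))))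
    (hx : dd f G (n + 1) x = 0) :
    ∃ y : G.obj (op (pow f n)), dd f G n y = x := by
  refine ⟨G.map (extra f s hs n).op x, ?_⟩
  have h := extra_d f G s hs n x
  rw [hx, map_zero] at h
  exact (sub_eq_zero.1 h.symm).symm

lemma aug_d (a : G.obj (op (Over.mk (𝟙 Y)))) :
    dd f G 0 (G.map (aug f 0).op a) = 0 := by
  rw [dd_apply, Fin.sum_univ_two]
  simp only [map_op_comp]
  have h : ∀ i : Fin 2, powMap f i.succAbove ≫ aug f 0 = aug f 1 :=
    fun i => Over.OverMorphism.ext (Over.w (powMap f i.succAbove))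
  rw [h, h]
  simp

include hs in
lemma cocycle_zero (x : G.obj (op (pow f 0))) (hx : dd f G 0 x = 0) :
    G.map (aug f 0).op (G.map (sec f s hs).op x) = x := by
  have h := congrArg (G.map (extra f s hs 0).op) hx
  rw [dd_apply, Fin.sum_univ_two, map_zero, map_add, map_zsmul, map_zsmul, map_op_comp,
    map_op_comp, extra_comp_zero, extra_comp_one] at h
  simp at h
  rw [map_op_comp]
  exact (sub_eq_zero.1 (by simpa [sub_eq_add_neg] using h)).symm

include hs in
lemma aug_injective : Function.Injective (G.map (aug f 0).op) := by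
  intro a b h
  have h' : sec f s hs ≫ aug f 0 = 𝟙 _ :=
    Over.OverMorphism.ext (WidePullback.lift_base (fun _ : Fin 1 => f) (𝟙 Y) (fun _ => s) (fun _ => hs))
  simpa [map_op_comp, h'] using congrArg (G.map (sec f s hs).op) h

include hs in
theorem exactAt_succ (n : ℕ) : (powCx f G).ExactAt (n + 1) := by
  rw [HomologicalComplex.exactAt_iff' _ n (n + 1) (n + 1 + 1) (by simp) (by simp),
    ShortComplex.ab_exact_iff]
  intro x hx
  obtain ⟨y, hy⟩ := cocycle_eq_boundary f G s hs n x ((d_eq f G (n + 1) x).symm.trans hx)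
  exact ⟨y, (d_eq f G n y).trans hy⟩

/-- Degree zero homology is the value at `Y`. -/
noncomputable def augToHomology : G.obj (op (Over.mk (𝟙 Y))) ⟶ (powCx f G).homology 0 :=
  (powCx f G).liftCycles (G.map (aug f 0).op) 1 (by simp)
    (by ext a; exact (d_eq f G 0 _).trans (aug_d f G a)) ≫ (powCx f G).homologyπ 0

include hs in
theorem isIso_augToHomology : IsIso (augToHomology f G) := by
  let Z := powCx f G
  have hl : ∀ a, Z.iCycles 0 (Z.liftCycles (G.map (aug f 0).op) 1 (by simp)
      (by ext a; exact (d_eq f G 0 _).trans (aug_d f G a)) a) = G.map (aug f 0).op a := fun a =>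
    ConcreteCategory.congr_hom (Z.liftCycles_i _ 1 (by simp) _) a
  have hinj : Function.Injective (Z.iCycles 0) :=
    (AddCommGrpCat.mono_iff_injective _).1 inferInstance
  have : IsIso (Z.homologyπ 0) :=
    Z.isIso_homologyπ 0 0 (by simp) (Z.shape 0 0 (by simp))
  have hπ : Function.Bijective (Z.homologyπ 0) := (ConcreteCategory.isIso_iff_bijective _).1 inferInstance
  rw [ConcreteCategory.isIso_iff_bijective]
  refine hπ.comp ⟨fun a b h => aug_injective f G s hs ((hl a).symm.trans
    ((congrArg (Z.iCycles 0) h).trans (hl b))), fun z => ?_⟩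
  refine ⟨G.map (sec f s hs).op (Z.iCycles 0 z), hinj ((hl _).trans ?_)⟩
  exact cocycle_zero f G s hs _ ((d_eq f G 0 _).symm.trans (ConcreteCategory.congr_hom (Z.iCycles_d 0 1) z))

end Groth.Agent.EtDescSplit
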